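import Cfsg.Agent.Lib.Spor.TC.Signed

/-!
An excluded extension of the centralizer, case 2 0 2: tables found by a computer search.
-/

set_option autoImplicit false
set_option maxRecDepth 100000

namespace CfsgLib.Spor.HSType.Cert.H202

open CfsgLib.Spor.TC

def edgeTbl : Tbl :=
  (.bin (.bin (.tip 0x140000d200008000142000120000080001300003900012000130000000001280000e000006000110000c7000100001130000f0001000000e0000f20000e0000e4000000000e60000c0000d30000c0000720000b0000c10000a0000b3000090000a30000800009000004000082000070000120000600007100005000063000040000500000100004200001000015000030000000000200003000000000004000000000020000100002000000000010) (.tip 0x10000000000300001a0001500013a0001d00012a0001e0001e40002f0001ea0002f0002f40000e0002f80001e0002b20002c0001ea0002d0000ea0002e0000fa0001a00010a0001b00011a0001c0000ca000200001ca0001f0000da0002500014a0002e0001a00002d0002e20002c0002d80002b0002c30002a0002b0000290002a20002800029800027000283)) (.bin (.tip 0x2600027000024000262000220001b4000250001f2000250001c400007000254000240000790002300024000006000238000220000770002100022000006000216000200001450001f0002020001f000084000040001f4000130000380001e0000e80001d0001e60001d000150000020001d80001c0000740001b0001c70001a0001b3000190001a900018000192000170001860001600017500015000163000150000180000100015800004000085)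 .none))

def nodeTbl : Tbl :=
  (.bin (.tip 0x440001d60000280001b70001a30001990001820001760001650001530000180000820001200000080001030000f00000e20000060000c30000b10000a3000093000080000042000061000053000040000012000020000010000000000000) (.tip 0xe80002d20002c80002b30002a00002920002880002730002600002420000740002300000680002100000660001f2))

def rowTbl : Tbl :=
  .none

/-- The relators. -/
def rels : List (List ℕ) := [
  [0, 0, 0, 0],
  [2, 2, 2, 2, 2, 2, 2],
  [4, 4, 4],
  [4, 2, 5, 3, 3],
  [4, 0, 5, 1],
  [0, 2, 0, 3, 1, 2, 1, 3],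
  [0, 2, 2, 0, 3, 3, 1, 2, 2, 1, 3, 3],
  [2, 0, 3, 2, 2, 0, 3, 3, 2, 1, 3, 2, 2, 1, 3, 3],
  [2, 2, 2, 0, 3, 3, 3, 2, 2, 1, 3, 3, 2, 2, 1, 3, 3, 2, 1, 3, 2, 1, 3, 2, 1, 3, 1],
  [6, 4, 7, 4],
  [6, 0, 7, 0],
  [6, 2, 0, 3, 7, 2, 2, 1, 3, 3],
  [6, 6],
  [2, 6, 2, 6, 2, 6],
  [8, 4, 9, 5],
  [8, 0, 9, 0],
  [8, 8],
  [8, 6, 8, 6, 1, 1],
  [8, 2, 0, 0, 3, 9, 4, 3, 7, 4, 2, 5, 3, 7, 4, 2, 2, 1, 3, 2, 1, 3, 1, 1],
  [8, 3, 5, 6, 2, 9, 3, 7, 4, 2],
  [8, 2, 0, 3, 8, 2, 0, 3, 8, 2, 0, 3, 5, 7]]

/-- The generators of the subgroup. -/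
def subs : List (List ℕ) := [[2], [4]]

/-- The certificate. -/
noncomputable def cert : Cert :=
  ⟨10, rels, subs, edgeTbl.get 44, nodeTbl.get 24, rowTbl.get 20⟩

/-- The word traced into the subgroup. -/
def target : List ℕ := [0, 0]

end CfsgLib.Spor.HSType.Cert.H202
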