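import Cfsg.Agent.Lib.Spor.HSType.Cert.H202.Data

/-!
Checks of a part of the derivation.
-/

set_option autoImplicit false

namespace CfsgLib.Spor.HSType.Cert.H202

open CfsgLib.Spor.TC

def scodes0 : List ℕ := [
  0x1,
  0x1,
  0x10000100003,
  0x10000200003,
  0x1,
  0x2000040000a00004000010000100002,
  0x1000080000200003000010000500002,
  0x1,
  0x1,
  0x1,
  0x1,
  0x100005000020001000012000140001600006000010000600002,
  0x1,
  0x1,
  0x1,
  0x1,
  0x1,
  0x1800001000050000500002000100001a0001c0001e000200002200008000010000700002,
  0x1,
  0x1,
  0x27000080002800002000010000a00002,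
  0x1,
  0x1,
  0x1,
  0x2400018000010000500005000280002c0002e0003000005000010000c00002,
  0x2800002000010000d00002,
  0x1,
  0x1,
  0xc000360003800003000010001000002,
  0x3600002000010001100002,
  0x1,
  0x250002400018000100001a0003e00004000020000200002,
  0x190000f0000d0001000003000020000400002,
  0x1,
  0x4400002000020001100002,
  0x1,
  0x1,
  0x1,
  0x1,
  0x1,
  0x1,
  0x1,
  0x1800044000480004a0004c0004e00050000520005400009000020001400002,
  0x1,
  0x43000040005800002000030001000002,
  0x1,
  0x340000b00009000580005c00003000030001200002,
  0x3900002000040001100002,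
  0x1,
  0x410006200002000050000300002,
  0x1,
  0x3d00019000620006600003000050000400002,
  0x1,
  0x1,
  0x150006a0006c00003000070000b00002,
  0x1,
  0x1,
  0x15000700007200003000070001000002,
  0x1,
  0x560007600002000080000300002,
  0x610000f000170007600002000080000400002,
  0x54000560006d00002000080000a00002,
  0x1,
  0x1,
  0x1,
  0x1,
  0x1,
  0x1,
  0x1,
  0x1,
  0x1,
  0x520007b0006e000730007e00080000820008400086000880008a0008c0008e0000b000080001500002,
  0x3d000410001a000630007900005000090000400002,
  0x3f000910007a00004,
  0x77000920006700004,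
  0x2600093000660009600004,
  0x32000970005300004,
  0x30000990005100004,
  0x2e0009b0008f00004,
  0x2c0009d0008d00004,
  0x5e0009f0008b00004,
  0x8a000a200004,
  0x1,
  0xa500029000a6000020000f0000f00002,
  0x5e000a6000020000f0001100002,
  0xa9000a7000aa00004,
  0x3c000060000200017000730007e0008000082000840008600088000a3000ab0005b0000f000130001500002,
  0x37000ad0005a00004,
  0x45000b00006000004,
  0xb000b200004]

set_option maxRecDepth 100000 in
theorem steps0 : cert.SStepsOK 0 90 :=
  Cert.SStepsOK.of_check _ (codes := scodes0) (by decide +kernel)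

end CfsgLib.Spor.HSType.Cert.H202
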